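import Cfsg.Agent.Helper36.TwE6.L2Defs

/-!
Helper18 / two-generation of `²E₆(q)` (S2406): the representative `m = s₀ s₁ s₂ s₃` of the Coxeter element of the twisted
Weyl group (of type `F₄`), on top of helper36's library for `²E₆(q)`.
-/

set_option autoImplicit false
set_option maxRecDepth 100000

namespace Cfsg.Agent.Helper18.TwE6Gen

open Cfsg Cfsg.Lie Cfsg.Agent.Helper18 Cfsg.Agent.Helper18.Aut Cfsg.Agent.Helper19.Twist
  Cfsg.Agent.Helper19.Poinc Cfsg.Agent.Helper19.Cox Cfsg.Agent.S1081 Cfsg.Agent.Helper6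
  Cfsg.Agent.Helper40.SL2Hom Cfsg.Agent.S1080 Cfsg.Agent.Helper18.Sub Cfsg.Agent.Helper36.TwE6

/-- the word of `m` in the fundamental reflections of `E₆`: `s_{p₁} s_{p₆} s_{p₃} s_{p₅} s_{p₄} s_{p₂}` -/
def mWordE6 : List ℕ := [0, 5, 2, 4, 3, 1]

section

variable {K : Type*} [Field K] [Fintype K] {q : ℕ} (f : K ≃+* K) (hf : ∀ t, f t = t ^ q)

/-- the representative `m = s₀ s₁ s₂ s₃` of the Coxeter element, in `G¹` -/
noncomputable def mTw : ↥(twistedE6 K q) := sTw f hf 0 * sTw f hf 1 * sTw f hf 2 * sTw f hf 3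

theorem n0Tw_eq : n0Tw f hf = mTw f hf ^ 6 := rfl

end

end Cfsg.Agent.Helper18.TwE6Gen
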