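import Cfsg.Agent.Helper36.TwE6.P_L2

/-!
Helper18 / two-generation of `²E₆(q)` (S2406): three cross relations between the twisted fundamental root subgroups.
Nodes of the twisted diagram: `a₀ = {p₁, p₆} = {56, 36}`, `a₁ = {p₃, p₅} = {42, 37}`, `b₀ = p₄ = 39 = sr 0`,
`b₁ = p₂ = 46 = sr 1`.
-/

set_option autoImplicit false
set_option maxRecDepth 100000

namespace Cfsg.Agent.Helper18.TwE6Gen

open Cfsg Cfsg.Lie Cfsg.Agent.Helper18 Cfsg.Agent.Helper18.Aut Cfsg.Agent.Helper19.Twist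
  Cfsg.Agent.Helper19.Poinc Cfsg.Agent.Helper19.Cox Cfsg.Agent.S1081 Cfsg.Agent.Helper6
  Cfsg.Agent.Helper40.SL2Hom Cfsg.Agent.S1080 Cfsg.Agent.Helper18.Sub Cfsg.Agent.Helper36.TwE6

/-- `h_{a₀}(c) x_{a₁}(t) h_{a₀}(c)⁻¹ = x_{a₁}(c⁻¹ t)` -/
theorem ha0_conj_xa1 {K : Type*} [Field K] (f : K ≃+* K) (c : K) (hc : c ≠ 0) (t : K) :
    h (xa f 0) (ya f 0) c * xa f 1 t * (h (xa f 0) (ya f 0) c)⁻¹ = xa f 1 (c⁻¹ * t) := by
  have := LA_h_a_conj f 0 1 (by decide) c t hc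
  rwa [zpow_neg_one] at this

theorem EC_pair_56_39 : pairing' chevE6 56 39 = 0 := by decide
theorem EC_pair_36_39 : pairing' chevE6 36 39 = 0 := by decide
theorem EC_pair_42_39 : pairing' chevE6 42 39 = -1 := by decide
theorem EC_pair_37_39 : pairing' chevE6 37 39 = -1 := by decide

/-- `h_{a₀}(c)` commutes with `x_{b₀}(u)` -/
theorem ha0_comm_xb0 {K : Type*} [Field K] (f : K ≃+* K) (c : K) (hc : c ≠ 0) (u : K) :
    Commute (h (xa f 0) (ya f 0) c) (xGL chevE6 K (sr 0) u) := by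
  have hfc : f c ≠ 0 := fun e => hc ((map_eq_zero f).1 e)
  have hs : sr 0 = 39 := rfl
  have hp : pr 0 = 56 := rfl
  have hp' : pr' 0 = 36 := rfl
  rw [h_a_eq f 0 c hc, hs, hp, hp']
  have e1 := LA_hG_conj 56 (by decide) c hc 39 (by decide) u
  have e2 := LA_hG_conj 36 (by decide) (f c) hfc 39 (by decide) u
  rw [EC_pair_56_39, zpow_zero, one_mul] at e1
  rw [EC_pair_36_39, zpow_zero, one_mul] at e2
  show hG chevE6 K 56 c * hG chevE6 K 36 (f c) * xGL chevE6 K 39 u =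
    xGL chevE6 K 39 u * (hG chevE6 K 56 c * hG chevE6 K 36 (f c))
  rw [mul_assoc, e2, ← mul_assoc, e1, mul_assoc]

/-- `h_{a₁}(c) x_{b₀}(u) h_{a₁}(c)⁻¹ = x_{b₀}((c c^q)⁻¹ u)` -/
theorem ha1_conj_xb0 {K : Type*} [Field K] (f : K ≃+* K) (c : K) (hc : c ≠ 0) (u : K) :
    h (xa f 1) (ya f 1) c * xGL chevE6 K (sr 0) u * (h (xa f 1) (ya f 1) c)⁻¹ =
      xGL chevE6 K (sr 0) ((c * f c)⁻¹ * u) := by
  have hfc : f c ≠ 0 := fun e => hc ((map_eq_zero f).1 e)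
  have hs : sr 0 = 39 := rfl
  have hp : pr 1 = 42 := rfl
  have hp' : pr' 1 = 37 := rfl
  rw [h_a_eq f 1 c hc, hs, hp, hp']
  have e2 := LA_hG_conj 37 (by decide) (f c) hfc 39 (by decide) u
  rw [EC_pair_37_39, zpow_neg_one] at e2
  have e1 := LA_hG_conj 42 (by decide) c hc 39 (by decide) ((f c)⁻¹ * u)
  rw [EC_pair_42_39, zpow_neg_one] at e1
  have e3 : hG chevE6 K 42 c * hG chevE6 K 37 (f c) * xGL chevE6 K 39 u =
      xGL chevE6 K 39 ((c * f c)⁻¹ * u) * (hG chevE6 K 42 c * hG chevE6 K 37 (f c)) := by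
    rw [mul_assoc, e2, ← mul_assoc, e1, mul_assoc, mul_inv, mul_assoc]
  rw [e3]
  group

end Cfsg.Agent.Helper18.TwE6Gen
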