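import Mathlib

/-!
Helper18 / two-generation of `²E₆(q)` (S2406), PIECE EF (two facts on finite fields).
-/

set_option autoImplicit false

namespace Cfsg.Agent.Helper18.TwE6Gen

/-- PIECE EF-1: the multiplicative group of a finite field with more than three elements has a generator `α₀` with
`α₀² ≠ 1`; every nonzero element is a natural power of it.
Hint: `IsCyclic Kˣ`, `IsCyclic.exists_generator`, `mem_powers_iff_mem_zpowers` (finite group); if `α₀² = 1` then every
nonzero element is `1` or `α₀`, so `|Kˣ| ≤ 2`, but `|Kˣ| = |K| - 1 ≥ 3` (e.g. `orderOf α₀ = |Kˣ|` divides `2`).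
(Compare `Cfsg.Agent.Helper18.Tw.exists_gen_field` in `Helper18/Tw/H_Field.lean`.) -/
theorem exists_gen_field2 {K : Type*} [Field K] [Fintype K] (hK : 3 < Fintype.card K) :
    ∃ α₀ : K, α₀ ≠ 0 ∧ α₀ ≠ 1 ∧ α₀ ^ 2 ≠ 1 ∧ ∀ y : K, y ≠ 0 → ∃ j : ℕ, y = α₀ ^ j := by
  classical
  obtain ⟨g, hg⟩ := IsCyclic.exists_monoid_generator (α := Kˣ)
  have hord : orderOf g = Fintype.card K - 1 := by
    rw [orderOf_eq_card_of_forall_mem_powers hg, Nat.card_eq_fintype_card, Fintype.card_units]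
  have hord3 : 3 ≤ orderOf g := by rw [hord]; omega
  refine ⟨(g : K), g.ne_zero, ?_, ?_, ?_⟩
  · intro h
    have hg1 : g = 1 := Units.ext (by rw [h, Units.val_one])
    rw [hg1, orderOf_one] at hord3
    omega
  · intro h
    have hg2 : g ^ 2 = 1 := Units.ext (by rw [Units.val_pow_eq_pow_val, h, Units.val_one])
    have := Nat.le_of_dvd (by norm_num) (orderOf_dvd_of_pow_eq_one hg2)
    omega
  · intro y hy
    obtain ⟨j, hj⟩ := hg (Units.mk0 y hy)
    simp only at hj
    refine ⟨j, ?_⟩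
    rw [← Units.val_pow_eq_pow_val, hj, Units.val_mk0]

/-- PIECE EF-2: the norm `c ↦ c c^q` from the field with `q²` elements onto the fixed field of `t ↦ t^q` is onto (here
in the form needed: every nonzero fixed `u` is the inverse of a norm).
Hint: `u = α₀^i` with `α₀` a generator of `K*`; `u^q = u` gives `α₀^(i (q-1)) = 1`, the order of `α₀` is `q² - 1`, so
`(q+1) ∣ i`; take `c = (α₀^(i/(q+1)))⁻¹`; `c * f c = c^(1+q)`. (Or: the kernel of the norm `Kˣ → Kˣ` has at most `q+1`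
elements, being the roots of `X^(q+1) - 1`, so the image has at least `q - 1` elements, all fixed by `f`, and there are
exactly `q - 1` nonzero fixed elements, the roots of `X^(q-1) - 1`.) -/
theorem norm_surj {K : Type*} [Field K] [Fintype K] {q : ℕ} (f : K ≃+* K) (hf : ∀ t, f t = t ^ q) (hq : 2 ≤ q)
    (hK : Fintype.card K = q ^ 2) (u : K) (hu : u ≠ 0) (hfu : f u = u) :
    ∃ c : K, c ≠ 0 ∧ (c * f c)⁻¹ = u := by
  classical
  obtain ⟨g, hg⟩ := IsCyclic.exists_monoid_generator (α := Kˣ)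
  have hord : orderOf g = q ^ 2 - 1 := by
    rw [orderOf_eq_card_of_forall_mem_powers hg, Nat.card_eq_fintype_card, Fintype.card_units, hK]
  obtain ⟨k, hk⟩ := hg (Units.mk0 u hu)
  simp only at hk
  have huq : u ^ q = u := by rw [← hf]; exact hfu
  have hu1 : u ^ (q - 1) = 1 := by
    have h1 : u ^ (q - 1) * u = 1 * u := by
      rw [← pow_succ, Nat.sub_add_cancel (by omega : 1 ≤ q), huq, one_mul]
    exact mul_right_cancel₀ hu h1
  have hgk : g ^ (k * (q - 1)) = 1 := by
    rw [pow_mul, hk]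
    apply Units.ext
    rw [Units.val_pow_eq_pow_val, Units.val_mk0, hu1, Units.val_one]
  have hdvd : (q ^ 2 - 1) ∣ k * (q - 1) := by
    rw [← hord]; exact orderOf_dvd_of_pow_eq_one hgk
  have hfac : q ^ 2 - 1 = (q + 1) * (q - 1) := by
    obtain ⟨m, rfl⟩ : ∃ m, q = m + 1 := ⟨q - 1, by omega⟩
    simp only [Nat.add_sub_cancel]
    have : (m + 1) ^ 2 = (m + 1 + 1) * m + 1 := by ring
    rw [this, Nat.add_sub_cancel]
  rw [hfac] at hdvd
  have hdvd' : (q + 1) ∣ k := Nat.dvd_of_mul_dvd_mul_right (by omega) hdvd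
  obtain ⟨m, hm⟩ := hdvd'
  refine ⟨(((g ^ m)⁻¹ : Kˣ) : K), Units.ne_zero _, ?_⟩
  rw [hf, ← pow_succ', ← Units.val_pow_eq_pow_val, ← Units.val_inv_eq_inv_val, inv_pow, inv_inv,
    ← pow_mul, mul_comm m, ← hm, hk, Units.val_mk0]

end Cfsg.Agent.Helper18.TwE6Gen
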