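import Cfsg.Agent.Helper18.TwE6Gen.Defs
import Cfsg.Agent.Helper36.TwE6.P_L2
import Cfsg.Agent.Helper36.ConjLin

/-!
Helper18 / two-generation of `²E₆(q)` (S2406), PIECE ET (the conjugate `m h_{a₀}(c)⁻¹ m⁻¹` of a torus element by the
Coxeter element). Here `m = nWordsGL chevE6 K mWordE6`, `mWordE6 = [0,5,2,4,3,1]`, and `w(p₁) = p₃`, `w(p₆) = p₅`.
-/

set_option autoImplicit false
set_option maxRecDepth 100000

namespace Cfsg.Agent.Helper18.TwE6Gen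

open Cfsg Cfsg.Lie Cfsg.Agent.Helper18 Cfsg.Agent.Helper18.Aut Cfsg.Agent.Helper19.Twist
  Cfsg.Agent.Helper19.Poinc Cfsg.Agent.Helper19.Cox Cfsg.Agent.S1081 Cfsg.Agent.Helper6
  Cfsg.Agent.Helper40.SL2Hom Cfsg.Agent.S1080 Cfsg.Agent.Helper18.Sub Cfsg.Agent.Helper36.TwE6

theorem ET_word_lt : ∀ i ∈ mWordE6, i < chevE6.rank := by decide

theorem ET_rho_56 : rhoFast reflTabsE6 mWordE6 56 = 42 := by decide
theorem ET_rho_36 : rhoFast reflTabsE6 mWordE6 36 = 37 := by decide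

theorem ET_pair_56_56 : pairing' chevE6 56 56 = 2 := by decide
theorem ET_pair_36_56 : pairing' chevE6 36 56 = 0 := by decide
theorem ET_pair_56_36 : pairing' chevE6 56 36 = 0 := by decide
theorem ET_pair_36_36 : pairing' chevE6 36 36 = 2 := by decide

/-- (abstract) the conjugate of a torus element by an element of `N` -/
theorem ET_key {Γ F : Type*} [Group Γ] [Field F] (m hh : Γ) (x x' : F → Γ) (η γ : F) (hη : η * η = 1)
    (hγ : γ ≠ 0) (hm : ∀ t, m * x' t = x (η * t) * m) (hhx : ∀ s, hh * x' s = x' (γ * s) * hh) (t : F) :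
    (m * hh⁻¹ * m⁻¹) * x t * (m * hh⁻¹ * m⁻¹)⁻¹ = x (γ⁻¹ * t) := by
  have hm' : ∀ t, m⁻¹ * x t * m = x' (η * t) := by
    intro t
    have h0 := hm (η * t)
    rw [← mul_assoc, hη, one_mul] at h0
    calc m⁻¹ * x t * m = m⁻¹ * (x t * m) := by group
      _ = m⁻¹ * (m * x' (η * t)) := by rw [h0]
      _ = x' (η * t) := by group
  have hh' : ∀ s, hh⁻¹ * x' s * hh = x' (γ⁻¹ * s) := by
    intro s
    have h0 := hhx (γ⁻¹ * s)
    rw [← mul_assoc, mul_inv_cancel₀ hγ, one_mul] at h0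
    calc hh⁻¹ * x' s * hh = hh⁻¹ * (x' s * hh) := by group
      _ = hh⁻¹ * (hh * x' (γ⁻¹ * s)) := by rw [h0]
      _ = x' (γ⁻¹ * s) := by group
  have hm'' : ∀ s, m * x' s * m⁻¹ = x (η * s) := by
    intro s
    rw [hm s]; group
  calc (m * hh⁻¹ * m⁻¹) * x t * (m * hh⁻¹ * m⁻¹)⁻¹
      = m * (hh⁻¹ * (m⁻¹ * x t * m) * hh) * m⁻¹ := by group
    _ = x (η * (γ⁻¹ * (η * t))) := by rw [hm', hh', hm'']
    _ = x (γ⁻¹ * t) := by
      congr 1
      calc η * (γ⁻¹ * (η * t)) = (η * η) * (γ⁻¹ * t) := by ring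
        _ = γ⁻¹ * t := by rw [hη, one_mul]

theorem ET_eta_sq {F : Type*} [Field F] (η : ℤ) (h : η = 1 ∨ η = -1) : ((η : F)) * (η : F) = 1 := by
  rcases h with rfl | rfl <;> simp

/-- PIECE ET-1: `g = m h_{a₀}(c)⁻¹ m⁻¹` acts on `x_{a₁}(t)` through `(c²)⁻¹`. -/
theorem m_h_conj_xa1 {K : Type*} [Field K] (f : K ≃+* K) (c : K) (hc : c ≠ 0) (t : K) :
    (nWordsGL chevE6 K mWordE6 * (h (xa f 0) (ya f 0) c)⁻¹ * (nWordsGL chevE6 K mWordE6)⁻¹) * xa f 1 t *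
      (nWordsGL chevE6 K mWordE6 * (h (xa f 0) (ya f 0) c)⁻¹ * (nWordsGL chevE6 K mWordE6)⁻¹)⁻¹ =
      xa f 1 ((c ^ 2)⁻¹ * t) := by
  have hfc : f c ≠ 0 := fun e => hc ((map_eq_zero f).1 e)
  have hp : pr 0 = 56 := rfl
  have hp' : pr' 0 = 36 := rfl
  have hq : pr 1 = 42 := rfl
  have hq' : pr' 1 = 37 := rfl
  set m := nWordsGL chevE6 K mWordE6 with hm
  set hh := h (xa f 0) (ya f 0) c with hhh
  have hhe : hh = hG chevE6 K 56 c * hG chevE6 K 36 (f c) := by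
    rw [hhh, h_a_eq f 0 c hc, hp, hp']
  -- the action of `m`
  obtain ⟨-, η₁, hη₁, c1⟩ := nWordsGL_conj_xGL (F := K) chevE6 memE6 h31E6 (reflectRoot_lt chevE6 memE6)
    mWordE6 ET_word_lt 56 (by decide)
  obtain ⟨-, η₂, hη₂, c2⟩ := nWordsGL_conj_xGL (F := K) chevE6 memE6 h31E6 (reflectRoot_lt chevE6 memE6)
    mWordE6 ET_word_lt 36 (by decide)
  have r1 : rho chevE6 mWordE6 56 = 42 := by
    rw [← (rhoFast_eq chevE6 reflTabsE6 tabsOK_E6 mWordE6 ET_word_lt 56 (by decide)).1, ET_rho_56]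
  have r2 : rho chevE6 mWordE6 36 = 37 := by
    rw [← (rhoFast_eq chevE6 reflTabsE6 tabsOK_E6 mWordE6 ET_word_lt 36 (by decide)).1, ET_rho_36]
  rw [r1] at c1
  rw [r2] at c2
  -- the action of `hh`
  have a1 : ∀ s : K, hh * xGL chevE6 K 56 s = xGL chevE6 K 56 (c ^ 2 * s) * hh := by
    intro s
    have e2 := LA_hG_conj 36 (by decide) (f c) hfc 56 (by decide) s
    rw [ET_pair_36_56, zpow_zero, one_mul] at e2
    have e1 := LA_hG_conj 56 (by decide) c hc 56 (by decide) s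
    rw [ET_pair_56_56, zpow_ofNat] at e1
    rw [hhe, mul_assoc, e2, ← mul_assoc, e1, mul_assoc]
  have a2 : ∀ s : K, hh * xGL chevE6 K 36 s = xGL chevE6 K 36 (f c ^ 2 * s) * hh := by
    intro s
    have e2 := LA_hG_conj 36 (by decide) (f c) hfc 36 (by decide) s
    rw [ET_pair_36_36, zpow_ofNat] at e2
    have e1 := LA_hG_conj 56 (by decide) c hc 36 (by decide) (f c ^ 2 * s)
    rw [ET_pair_56_36, zpow_zero, one_mul] at e1
    rw [hhe, mul_assoc, e2, ← mul_assoc, e1, mul_assoc]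
  have k1 := ET_key m hh (xGL chevE6 K 42) (xGL chevE6 K 56) (η₁ : K) (c ^ 2) (ET_eta_sq η₁ hη₁)
    (pow_ne_zero 2 hc) c1 a1 t
  have k2 := ET_key m hh (xGL chevE6 K 37) (xGL chevE6 K 36) (η₂ : K) (f c ^ 2) (ET_eta_sq η₂ hη₂)
    (pow_ne_zero 2 hfc) c2 a2 (f t)
  unfold xa
  rw [hq, hq']
  have e : (m * hh⁻¹ * m⁻¹) * (xGL chevE6 K 42 t * xGL chevE6 K 37 (f t)) * (m * hh⁻¹ * m⁻¹)⁻¹ =
      ((m * hh⁻¹ * m⁻¹) * xGL chevE6 K 42 t * (m * hh⁻¹ * m⁻¹)⁻¹) *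
        ((m * hh⁻¹ * m⁻¹) * xGL chevE6 K 37 (f t) * (m * hh⁻¹ * m⁻¹)⁻¹) := by group
  rw [e, k1, k2, map_mul, map_inv₀, map_pow]

/-- two elements of the diagonal subgroup commute -/
theorem ET_diag_comm {K : Type*} [Field K] (a b : GL chevE6.Idx K) (ha : a ∈ chevE6.diagonalSubgroup K)
    (hb : b ∈ chevE6.diagonalSubgroup K) : Commute a b := by
  obtain ⟨χ, -, hd, -⟩ := diagonalSubgroup_char chevE6 memE6 a ha
  obtain ⟨χ', -, hd', -⟩ := diagonalSubgroup_char chevE6 memE6 b hb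
  show a * b = b * a
  apply Units.ext
  rw [Units.val_mul, Units.val_mul, hd, hd', Matrix.diagonal_mul_diagonal, Matrix.diagonal_mul_diagonal]
  congr 1
  funext j
  exact mul_comm _ _

/-- PIECE ET-2: `h_{a₀}(c)` commutes with its conjugate under `m` (both lie in the diagonal subgroup). -/
theorem m_h_comm {K : Type*} [Field K] (f : K ≃+* K) (c : K) (hc : c ≠ 0) :
    Commute (h (xa f 0) (ya f 0) c)
      (nWordsGL chevE6 K mWordE6 * (h (xa f 0) (ya f 0) c)⁻¹ * (nWordsGL chevE6 K mWordE6)⁻¹) := by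
  have hfc : f c ≠ 0 := fun e => hc ((map_eq_zero f).1 e)
  have hp : pr 0 = 56 := rfl
  have hp' : pr' 0 = 36 := rfl
  have hH : h (xa f 0) (ya f 0) c ∈ chevE6.diagonalSubgroup K := by
    rw [h_a_eq f 0 c hc, hp, hp']
    exact mul_mem (hG_mem chevE6 memE6 56 (by decide) c hc) (hG_mem chevE6 memE6 36 (by decide) (f c) hfc)
  have hmN : nWordsGL chevE6 K mWordE6 ∈ chevE6.monomialSubgroup K :=
    nWordsGL_mem (F := K) chevE6 memE6 mWordE6 ET_word_lt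
  have hHN : chevE6.diagonalSubgroup K ≤ chevE6.monomialSubgroup K :=
    diagonalSubgroup_le_monomialSubgroup chevE6
  apply ET_diag_comm _ _ hH
  -- `N` normalises `H`
  have hn : (HN chevE6 K).Normal := hnE6
  have h1 : (⟨(h (xa f 0) (ya f 0) c)⁻¹, hHN (inv_mem hH)⟩ : ↥(chevE6.monomialSubgroup K)) ∈ HN chevE6 K := by
    rw [Subgroup.mem_subgroupOf]
    exact inv_mem hH
  have h2 := hn.conj_mem _ h1 ⟨nWordsGL chevE6 K mWordE6, hmN⟩
  rw [Subgroup.mem_subgroupOf] at h2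
  exact h2

end Cfsg.Agent.Helper18.TwE6Gen
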