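import Cfsg.Agent.Helper18.TwE6Gen.Defs
import Cfsg.Agent.Helper36.TwE6.P_N0

/-!
Helper18 / two-generation of `²E₆(q)` (S2406), PIECE EW (the Coxeter element `w = s₀ s₁ s₂ s₃` maps `a₀` to `a₁` and `b₀`
to `b₁`). In `E₆`: `m = nWordsGL chevE6 K [0,5,2,4,3,1]` and `w(p₁) = p₃`, `w(p₆) = p₅`, `w(p₄) = p₂`, i.e.
`rho chevE6 mWordE6 56 = 42`, `rho chevE6 mWordE6 36 = 37`, `rho chevE6 mWordE6 39 = 46`.
-/

set_option autoImplicit false
set_option maxRecDepth 100000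

namespace Cfsg.Agent.Helper18.TwE6Gen

open Cfsg Cfsg.Lie Cfsg.Agent.Helper18 Cfsg.Agent.Helper18.Aut Cfsg.Agent.Helper19.Twist
  Cfsg.Agent.Helper19.Poinc Cfsg.Agent.Helper19.Cox Cfsg.Agent.S1081 Cfsg.Agent.Helper6
  Cfsg.Agent.Helper40.SL2Hom Cfsg.Agent.S1080 Cfsg.Agent.Helper18.Sub Cfsg.Agent.Helper36.TwE6

theorem EW_word_lt : ∀ i ∈ mWordE6, i < chevE6.rank := by decide

theorem EW_rho_56 : rhoFast reflTabsE6 mWordE6 56 = 42 := by decide
theorem EW_rho_36 : rhoFast reflTabsE6 mWordE6 36 = 37 := by decide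
theorem EW_rho_39 : rhoFast reflTabsE6 mWordE6 39 = 46 := by decide

/-- PIECE EW-1: `m` in the ambient group. -/
theorem mTw_val {K : Type*} [Field K] [Fintype K] {q : ℕ} (f : K ≃+* K) (hf : ∀ t, f t = t ^ q) :
    ((mTw f hf : ↥(twistedE6 K q)) : GL chevE6.Idx K) = nWordsGL chevE6 K mWordE6 := by
  have e0 : ((sTw f hf 0 : ↥(twistedE6 K q)) : GL chevE6.Idx K) =
      wordGL chevE6 K (chevE6.nWord 56 (1 : K)) * wordGL chevE6 K (chevE6.nWord 36 (1 : K)) := by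
    show ((repGenE6 K 0 : ↥(chevE6.monomialSubgroup K)) : GL chevE6.Idx K) = _
    have : repGenE6 K 0 = nN chevE6 K 56 * nN chevE6 K 36 := by simp [repGenE6]
    rw [this, Subgroup.coe_mul, nN_val chevE6 memE6 56 (by decide), nN_val chevE6 memE6 36 (by decide)]
  have e1 : ((sTw f hf 1 : ↥(twistedE6 K q)) : GL chevE6.Idx K) =
      wordGL chevE6 K (chevE6.nWord 42 (1 : K)) * wordGL chevE6 K (chevE6.nWord 37 (1 : K)) := by
    show ((repGenE6 K 1 : ↥(chevE6.monomialSubgroup K)) : GL chevE6.Idx K) = _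
    have : repGenE6 K 1 = nN chevE6 K 42 * nN chevE6 K 37 := by simp [repGenE6]
    rw [this, Subgroup.coe_mul, nN_val chevE6 memE6 42 (by decide), nN_val chevE6 memE6 37 (by decide)]
  have e2 : ((sTw f hf 2 : ↥(twistedE6 K q)) : GL chevE6.Idx K) =
      wordGL chevE6 K (chevE6.nWord 39 (1 : K)) := by
    show ((repGenE6 K 2 : ↥(chevE6.monomialSubgroup K)) : GL chevE6.Idx K) = _
    have : repGenE6 K 2 = nN chevE6 K 39 := by simp [repGenE6]
    rw [this, nN_val chevE6 memE6 39 (by decide)]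
  have e3 : ((sTw f hf 3 : ↥(twistedE6 K q)) : GL chevE6.Idx K) =
      wordGL chevE6 K (chevE6.nWord 46 (1 : K)) := by
    show ((repGenE6 K 3 : ↥(chevE6.monomialSubgroup K)) : GL chevE6.Idx K) = _
    have : repGenE6 K 3 = nN chevE6 K 46 := by simp [repGenE6]
    rw [this, nN_val chevE6 memE6 46 (by decide)]
  have s0 : chevE6.simple 0 = 56 := rfl
  have s1 : chevE6.simple 1 = 46 := rfl
  have s2 : chevE6.simple 2 = 42 := rfl
  have s3 : chevE6.simple 3 = 39 := rfl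
  have s4 : chevE6.simple 4 = 37 := rfl
  have s5 : chevE6.simple 5 = 36 := rfl
  unfold mTw
  rw [Subgroup.coe_mul, Subgroup.coe_mul, Subgroup.coe_mul, e0, e1, e2, e3]
  simp only [nWordsGL, mWordE6, List.map_cons, List.map_nil, List.prod_cons, List.prod_nil, s0, s1, s2, s3, s4, s5,
    mul_one, mul_assoc]

/-- PIECE EW-2: `m X_{a₀} m⁻¹ ≤ X_{a₁}`, elementwise. -/
theorem m_conj_xa0 {K : Type*} [Field K] [Fintype K] {q : ℕ} (f : K ≃+* K) (hf : ∀ t, f t = t ^ q)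
    (hK : Fintype.card K = q ^ 2) (t : K) :
    ∃ s : K, mTw f hf * xaS f hf 0 t * (mTw f hf)⁻¹ = xaS f hf 1 s := by
  have hle := twistedE6_le_FixE6 f hf hK
  obtain ⟨-, η₁, -, c1⟩ := nWordsGL_conj_xGL (F := K) chevE6 memE6 h31E6 (reflectRoot_lt chevE6 memE6)
    mWordE6 EW_word_lt 56 (by decide)
  obtain ⟨-, η₂, -, c2⟩ := nWordsGL_conj_xGL (F := K) chevE6 memE6 h31E6 (reflectRoot_lt chevE6 memE6)
    mWordE6 EW_word_lt 36 (by decide)
  have r1 : rho chevE6 mWordE6 56 = 42 := by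
    rw [← (rhoFast_eq chevE6 reflTabsE6 tabsOK_E6 mWordE6 EW_word_lt 56 (by decide)).1, EW_rho_56]
  have r2 : rho chevE6 mWordE6 36 = 37 := by
    rw [← (rhoFast_eq chevE6 reflTabsE6 tabsOK_E6 mWordE6 EW_word_lt 36 (by decide)).1, EW_rho_36]
  rw [r1] at c1
  rw [r2] at c2
  set m := nWordsGL chevE6 K mWordE6 with hm
  have hp : pr 0 = 56 := rfl
  have hp' : pr' 0 = 36 := rfl
  have hq1 : pr 1 = 42 := rfl
  have hq1' : pr' 1 = 37 := rfl
  have e : m * xa f 0 t * m⁻¹ = xGL chevE6 K 42 ((η₁ : K) * t) * xGL chevE6 K 37 ((η₂ : K) * f t) := by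
    unfold xa
    rw [hp, hp']
    calc m * (xGL chevE6 K 56 t * xGL chevE6 K 36 (f t)) * m⁻¹
        = (m * xGL chevE6 K 56 t) * xGL chevE6 K 36 (f t) * m⁻¹ := by group
      _ = xGL chevE6 K 42 ((η₁ : K) * t) * (m * xGL chevE6 K 36 (f t)) * m⁻¹ := by rw [c1]; group
      _ = xGL chevE6 K 42 ((η₁ : K) * t) * xGL chevE6 K 37 ((η₂ : K) * f t) := by rw [c2]; group
  have hmem : m * xa f 0 t * m⁻¹ ∈ listSubgroup chevE6 K [pr 1, pr' 1] ⊓ FixE6 f := by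
    refine Subgroup.mem_inf.mpr ⟨?_, ?_⟩
    · rw [e, hq1, hq1']
      exact mul_mem
        (rootSubgroup_le_list [42, 37] 42 (by simp) (Aut.xGL_mem_rootSubgroup chevE6 memE6 _ _))
        (rootSubgroup_le_list [42, 37] 37 (by simp) (Aut.xGL_mem_rootSubgroup chevE6 memE6 _ _))
    · have hmG : m ∈ twistedE6 K q := by
        rw [hm, ← mTw_val f hf]
        exact (mTw f hf).2
      exact hle (mul_mem (mul_mem hmG (xa_mem f hf 0 t)) (inv_mem hmG))
  obtain ⟨s, hs⟩ := fixJ_pos f hf hK 1 _ hmem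
  refine ⟨s, Subtype.ext ?_⟩
  rw [Subgroup.coe_mul, Subgroup.coe_mul, Subgroup.coe_inv, mTw_val, xaS_coe, xaS_coe]
  exact hs

/-- PIECE EW-3: `X_{b₁} ≤ m X_{b₀} m⁻¹`, elementwise. -/
theorem m_conj_xb0 {K : Type*} [Field K] [Fintype K] {q : ℕ} (f : K ≃+* K) (hf : ∀ t, f t = t ^ q)
    (hK : Fintype.card K = q ^ 2) (u : k0 f) :
    ∃ v : k0 f, xbS f hf 1 u = mTw f hf * xbS f hf 0 v * (mTw f hf)⁻¹ := by
  obtain ⟨-, η, hη, c1⟩ := nWordsGL_conj_xGL (F := K) chevE6 memE6 h31E6 (reflectRoot_lt chevE6 memE6)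
    mWordE6 EW_word_lt 39 (by decide)
  have r1 : rho chevE6 mWordE6 39 = 46 := by
    rw [← (rhoFast_eq chevE6 reflTabsE6 tabsOK_E6 mWordE6 EW_word_lt 39 (by decide)).1, EW_rho_39]
  rw [r1] at c1
  set m := nWordsGL chevE6 K mWordE6 with hm
  have hηη : (η : K) * (η : K) = 1 := by
    rcases hη with rfl | rfl <;> simp
  have hηfix : f (η : K) = (η : K) := by
    rcases hη with rfl | rfl <;> simp
  have hv : f ((η : K) * (u : K)) = (η : K) * (u : K) := by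
    rw [map_mul, hηfix, (mem_k0 f _).mp u.2]
  refine ⟨⟨(η : K) * (u : K), (mem_k0 f _).mpr hv⟩, Subtype.ext ?_⟩
  rw [Subgroup.coe_mul, Subgroup.coe_mul, Subgroup.coe_inv, mTw_val, xbS_coe, xbS_coe]
  have hs0 : sr 0 = 39 := rfl
  have hs1 : sr 1 = 46 := rfl
  rw [hs0, hs1]
  show xGL chevE6 K 46 (u : K) = m * xGL chevE6 K 39 ((η : K) * (u : K)) * m⁻¹
  rw [c1, ← mul_assoc, hηη, one_mul]
  group

end Cfsg.Agent.Helper18.TwE6Gen
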