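import Cfsg.Agent.Helper36.TwE6.Aut
import Cfsg.Agent.Helper18.Gen.Abs2
import Cfsg.Agent.Helper18.TwE6Gen.Defs
import Cfsg.Agent.Helper18.TwE6Gen.E_Field
import Cfsg.Agent.Helper18.TwE6Gen.E_Cross
import Cfsg.Agent.Helper18.TwE6Gen.E_Weyl
import Cfsg.Agent.Helper18.TwE6Gen.E_Tor

/-!
Helper18: the twisted groups `²E₆(q)` are generated by two elements (after Steinberg): `a = h_{a₀}(c) x_{b₀}(1)` (commuting
factors of coprime orders, `c⁻¹` a generator of `K*`) and `b = x_{a₁}(1) m`, `m = s₀ s₁ s₂ s₃` a representative of the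
Coxeter element of the twisted Weyl group: `w(a₀) = a₁`, `w(b₀) = b₁`, `m⁶ = n₀`.
-/

set_option autoImplicit false
set_option maxRecDepth 100000

namespace Cfsg.Agent.Helper18.TwE6Gen

open Cfsg Cfsg.Lie Cfsg.Agent.Helper18 Cfsg.Agent.Helper18.Aut Cfsg.Agent.Helper19.Twist
  Cfsg.Agent.Helper19.Poinc Cfsg.Agent.Helper19.Cox Cfsg.Agent.S1081 Cfsg.Agent.Helper6
  Cfsg.Agent.Helper40.SL2Hom Cfsg.Agent.S1080 Cfsg.Agent.Helper18.Sub Cfsg.Agent.Helper18.Gen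
  Cfsg.Agent.Helper36.TwE6

section

variable {K : Type*} [Field K] [Fintype K] {q : ℕ} (f : K ≃+* K) (hf : ∀ t, f t = t ^ q)

theorem coe_h_aS (i : Fin 2) (t : K) :
    ((h (xaS f hf i) (yaS f hf i) t : ↥(twistedE6 K q)) : GL chevE6.Idx K) = h (xa f i) (ya f i) t := by
  rw [LA_coe_h]
  rfl

include hf in
/-- the twisted groups `²E₆(q)` are generated by two elements -/
theorem gen2_E6 (p : ℕ) [Fact p.Prime] [CharP K p] (hq : IsPrimePow q) (hK : Fintype.card K = q ^ 2) :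
    ∃ a b : ↥(twistedE6 K q), Subgroup.closure ({a, b} : Set ↥(twistedE6 K q)) = ⊤ := by
  have hp : p.Prime := Fact.out
  have hq2 : 2 ≤ q := hq.two_le
  have hcard : 3 < Fintype.card K := by
    rw [hK]
    calc 3 < 2 ^ 2 := by norm_num
      _ ≤ q ^ 2 := Nat.pow_le_pow_left hq2 2
  obtain ⟨α₀, hα0, hα1, hα2, hαgen⟩ := exists_gen_field2 (K := K) hcard
  obtain ⟨P, -, -, H⟩ := twE6_L1Hyp f hf p hq hK
  set c : K := α₀⁻¹ with hc
  have hc0 : c ≠ 0 := inv_ne_zero hα0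
  have hcinv : c⁻¹ = α₀ := inv_inv α₀
  -- the rank one systems in `G¹`
  have Ra : ∀ i, Rel (xaS f hf i) (yaS f hf i) := (l2_a f hf).rel
  have Rb : ∀ j, Rel (xbS f hf j) (ybS f hf j) := (l2_b f hf).rel
  set hS : ↥(twistedE6 K q) := h (xaS f hf 0) (yaS f hf 0) c with hhS
  set m : ↥(twistedE6 K q) := mTw f hf with hm
  set e : ↥(twistedE6 K q) := xbS f hf 0 1 with he
  have hScoe : (hS : GL chevE6.Idx K) = h (xa f 0) (ya f 0) c := coe_h_aS f hf 0 c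
  have hx : ∀ t, hS * xaS f hf 1 t * hS⁻¹ = xaS f hf 1 (α₀ * t) := by
    intro t
    apply Subtype.ext
    rw [Subgroup.coe_mul, Subgroup.coe_mul, Subgroup.coe_inv, hScoe, xaS_coe, xaS_coe,
      ha0_conj_xa1 f c hc0 t, hcinv]
  have hkcoe : ((hS * m * hS⁻¹ * m⁻¹ : ↥(twistedE6 K q)) : GL chevE6.Idx K) =
      h (xa f 0) (ya f 0) c * (nWordsGL chevE6 K mWordE6 * (h (xa f 0) (ya f 0) c)⁻¹ *
        (nWordsGL chevE6 K mWordE6)⁻¹) := by
    rw [Subgroup.coe_mul, Subgroup.coe_mul, Subgroup.coe_mul, Subgroup.coe_inv, Subgroup.coe_inv, hScoe, hm,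
      mTw_val]
    group
  have hk : ∀ t, (hS * m * hS⁻¹ * m⁻¹) * xaS f hf 1 t * (hS * m * hS⁻¹ * m⁻¹)⁻¹ =
      xaS f hf 1 (α₀ * (α₀ ^ 2) * t) := by
    intro t
    apply Subtype.ext
    rw [Subgroup.coe_mul, Subgroup.coe_mul, Subgroup.coe_inv, hkcoe, xaS_coe, xaS_coe]
    have e1 := m_h_conj_xa1 f c hc0 t
    have e2 := ha0_conj_xa1 f c hc0 ((c ^ 2)⁻¹ * t)
    have e3 : c⁻¹ * ((c ^ 2)⁻¹ * t) = α₀ * α₀ ^ 2 * t := by
      rw [← inv_pow, hcinv, mul_assoc]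
    rw [e3] at e2
    rw [← e2, ← e1]
    group
  have hkc : Commute hS (hS * m * hS⁻¹ * m⁻¹) := by
    have h0 := m_h_comm f c hc0
    have : Commute (hS : GL chevE6.Idx K) ((hS * m * hS⁻¹ * m⁻¹ : ↥(twistedE6 K q)) : GL chevE6.Idx K) := by
      rw [hkcoe, hScoe]
      exact (Commute.refl _).mul_right h0
    exact Subtype.ext this.eq
  have hec : Commute hS e := by
    have h0 := ha0_comm_xb0 f c hc0 ((1 : k0 f) : K)
    have : Commute (hS : GL chevE6.Idx K) (e : GL chevE6.Idx K) := by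
      rw [hScoe, he, xbS_coe]
      exact h0
    exact Subtype.ext this.eq
  have hN : hS ^ (Fintype.card K - 1) = 1 := h_pow_card (Ra 0) c hc0
  have hpe : e ^ p = 1 := by
    have key : ∀ n : ℕ, e ^ n = xbS f hf 0 (n : k0 f) := by
      intro n
      induction n with
      | zero => simp [(Rb 0).x_zero]
      | succ n ih =>
        rw [pow_succ, ih, he, ← (Rb 0).x_add]
        congr 1
        push_cast
        rfl
    rw [key]
    have : ((p : ℕ) : k0 f) = 0 := by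
      apply Subtype.ext
      push_cast
      exact CharP.cast_eq_zero K p
    rw [this, (Rb 0).x_zero]
  have hcop : Nat.Coprime (Fintype.card K - 1) p := by
    have hdvd : p ∣ Fintype.card K := (CharP.cast_eq_zero_iff K p _).mp (Nat.cast_card_eq_zero K)
    apply Nat.Coprime.symm
    rw [Nat.Prime.coprime_iff_not_dvd hp]
    intro h1
    have h2 : p ∣ Fintype.card K - (Fintype.card K - 1) := Nat.dvd_sub hdvd h1
    have h3 : Fintype.card K - (Fintype.card K - 1) = 1 := by omega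
    rw [h3] at h2
    exact hp.one_lt.ne' (Nat.dvd_one.mp h2)
  have hαβ : α₀ ≠ α₀ * α₀ ^ 2 := by
    intro h0
    apply hα2
    have : α₀ * 1 = α₀ * α₀ ^ 2 := by rw [mul_one]; exact h0
    exact (mul_left_cancel₀ hα0 this).symm
  refine ⟨hS * e, xaS f hf 1 1 * m, ?_⟩
  set L := Subgroup.closure ({hS * e, xaS f hf 1 1 * m} : Set ↥(twistedE6 K q)) with hL
  have h1L : hS * e ∈ L := Subgroup.subset_closure (Set.mem_insert _ _)
  have h2L : xaS f hf 1 1 * m ∈ L := Subgroup.subset_closure (Set.mem_insert_of_mem _ rfl)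
  obtain ⟨hhL, heL, hxa1L, hmL⟩ := gen_step' (fun s t => (Ra 1).x_add s t) hS α₀ (α₀ * α₀ ^ 2) hx m hk hkc e hec _ p
    hN hpe hcop hα1 hαβ hαgen L h1L h2L
  -- the longest element
  have hn₀L : n0Tw f hf ∈ L := by
    rw [n0Tw_eq]
    exact L.pow_mem hmL 6
  have hXeq := H.Xp_eq
  have hneg : ∀ (a : Fin 4) (y : ↥(twistedE6 K q)), y ∈ XmTw f q a → (∀ x ∈ XpTw f q a, x ∈ L) → y ∈ L := by
    intro a y hy hX
    have h1 : n0Tw f hf * y * (n0Tw f hf)⁻¹ ∈ XpTw f q a := by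
      have := hXeq a
      simp only [id] at this
      rw [← this]
      exact conj_mem_cjg hy
    have : y = (n0Tw f hf)⁻¹ * (n0Tw f hf * y * (n0Tw f hf)⁻¹) * n0Tw f hf := by group
    rw [this]
    exact L.mul_mem (L.mul_mem (L.inv_mem hn₀L) (hX _ h1)) hn₀L
  -- `X_{±a₁}`
  have hya1L : ∀ t, yaS f hf 1 t ∈ L := by
    intro t
    apply hneg (Fin.castLE (by decide) (1 : Fin 2)) _ ((mem_XmA f hf 1 _).mpr ⟨t, rfl⟩)
    intro x hx
    obtain ⟨s, rfl⟩ := (mem_XpA f hf 1 x).mp hx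
    exact hxa1L s
  -- `X_{±a₀}`
  have hxa0L : ∀ t, xaS f hf 0 t ∈ L := by
    intro t
    obtain ⟨s, hs⟩ := m_conj_xa0 f hf hK t
    have : xaS f hf 0 t = m⁻¹ * (m * xaS f hf 0 t * m⁻¹) * m := by group
    rw [this, hs]
    exact L.mul_mem (L.mul_mem (L.inv_mem hmL) (hxa1L s)) hmL
  have hya0L : ∀ t, yaS f hf 0 t ∈ L := by
    intro t
    apply hneg (Fin.castLE (by decide) (0 : Fin 2)) _ ((mem_XmA f hf 0 _).mpr ⟨t, rfl⟩)
    intro x hx
    obtain ⟨s, rfl⟩ := (mem_XpA f hf 0 x).mp hx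
    exact hxa0L s
  -- `X_{±b₀}`
  have hha1L : ∀ d : K, h (xaS f hf 1) (yaS f hf 1) d ∈ L := by
    intro d
    unfold h w
    exact L.mul_mem (L.mul_mem (L.mul_mem (hxa1L _) (hya1L _)) (hxa1L _))
      (L.inv_mem (L.mul_mem (L.mul_mem (hxa1L _) (hya1L _)) (hxa1L _)))
  have hxb0L : ∀ u : k0 f, xbS f hf 0 u ∈ L := by
    intro u
    by_cases hu : u = 0
    · rw [hu, (Rb 0).x_zero]; exact L.one_mem
    have hu' : (u : K) ≠ 0 := fun h0 => hu (Subtype.ext h0)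
    obtain ⟨d, hd0, hd⟩ := norm_surj f hf hq2 hK (u : K) hu' u.2
    have e1 : xbS f hf 0 u = h (xaS f hf 1) (yaS f hf 1) d * e * (h (xaS f hf 1) (yaS f hf 1) d)⁻¹ := by
      apply Subtype.ext
      rw [Subgroup.coe_mul, Subgroup.coe_mul, Subgroup.coe_inv, coe_h_aS, he, xbS_coe, xbS_coe,
        ha1_conj_xb0 f d hd0, hd]
      congr 1
      push_cast
      ring
    rw [e1]
    exact L.mul_mem (L.mul_mem (hha1L d) heL) (L.inv_mem (hha1L d))
  have hyb0L : ∀ u : k0 f, ybS f hf 0 u ∈ L := by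
    intro u
    apply hneg (Fin.natAdd 2 (0 : Fin 2)) _ ((mem_XmB f hf 0 _).mpr ⟨u, rfl⟩)
    intro x hx
    obtain ⟨v, rfl⟩ := (mem_XpB f hf 0 x).mp hx
    exact hxb0L v
  -- `X_{±b₁}`
  have hxb1L : ∀ u : k0 f, xbS f hf 1 u ∈ L := by
    intro u
    obtain ⟨v, hv⟩ := m_conj_xb0 f hf hK u
    rw [hv]
    exact L.mul_mem (L.mul_mem hmL (hxb0L v)) (L.inv_mem hmL)
  have hyb1L : ∀ u : k0 f, ybS f hf 1 u ∈ L := by
    intro u
    apply hneg (Fin.natAdd 2 (1 : Fin 2)) _ ((mem_XmB f hf 1 _).mpr ⟨u, rfl⟩)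
    intro x hx
    obtain ⟨v, rfl⟩ := (mem_XpB f hf 1 x).mp hx
    exact hxb1L v
  -- conclusion
  have hxaL : ∀ (i : Fin 2) t, xaS f hf i t ∈ L := by
    intro i t
    fin_cases i
    · exact hxa0L t
    · exact hxa1L t
  have hyaL : ∀ (i : Fin 2) t, yaS f hf i t ∈ L := by
    intro i t
    fin_cases i
    · exact hya0L t
    · exact hya1L t
  have hxbL : ∀ (j : Fin 2) u, xbS f hf j u ∈ L := by
    intro j u
    fin_cases j
    · exact hxb0L u
    · exact hxb1L u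
  have hybL : ∀ (j : Fin 2) u, ybS f hf j u ∈ L := by
    intro j u
    fin_cases j
    · exact hyb0L u
    · exact hyb1L u
  rw [eq_top_iff]
  have hle : twistedE6 K q ≤ L.map (twistedE6 K q).subtype := by
    unfold twistedE6 ChevalleyDatum.genSubgroup
    rw [Subgroup.closure_le]
    intro g hg
    rcases EX_gen_cases f hf g hg with ⟨i, t, rfl⟩ | ⟨i, t, rfl⟩ | ⟨j, u, hu, rfl⟩ | ⟨j, u, hu, rfl⟩
    · exact ⟨xaS f hf i t, hxaL i t, rfl⟩
    · exact ⟨yaS f hf i t, hyaL i t, rfl⟩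
    · exact ⟨xbS f hf j ⟨u, hu⟩, hxbL j _, rfl⟩
    · exact ⟨ybS f hf j ⟨u, hu⟩, hybL j _, rfl⟩
  rintro g -
  obtain ⟨g', hg', e'⟩ := hle g.2
  have : g' = g := Subtype.ext e'
  rw [← this]
  exact hg'

end

end Cfsg.Agent.Helper18.TwE6Gen
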